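import Mathlib
import Groth.Agent.Lib.Helper14.MorGlue1
import Groth.Agent.Lib.Helper14.MorGlue2

/-!
# Local representability over a base: open subfunctors of a presheaf on `Over S` (helper19)

A Zariski sheaf `F` on `Over S` which is covered by representable open subfunctors is representable.
Proved through helper14's total presheaf `tot F` and Mathlib's `Scheme.LocalRepresentability`.
-/

set_option autoImplicit false
set_option linter.style.haveILetI false
set_option linter.unusedSectionVars false
set_option linter.unusedVariables false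

universe u
open CategoryTheory CategoryTheory.Limits AlgebraicGeometry Opposite

namespace Groth.Agent.Helper19.LRB

open Groth.Agent.Helper14.MorGlue

variable {S : Scheme.{u}} (F : (Over S)ᵒᵖ ⥤ Type u)

/-- `res` is `F.map` of the evident morphism. -/
theorem res_eq_map {T T' : Scheme.{u}} (φ : T' ⟶ T) {t : T ⟶ S} {t' : T' ⟶ S} (h : φ ≫ t = t')
    (x : F.obj (op (Over.mk t))) :
    res F φ h x = F.map (Over.homMk φ h : Over.mk t' ⟶ Over.mk t).op x := rfl

/-- equality of elements of `tot F` from equality of structure maps and of sections. -/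
theorem tot_ext {T : Scheme.{u}} {t t' : T ⟶ S} (x : F.obj (op (Over.mk t)))
    (x' : F.obj (op (Over.mk t'))) (h : t = t')
    (hx : res F (𝟙 T) (by rw [Category.id_comp, h]) x = x') :
    (⟨t, x⟩ : Σ t : T ⟶ S, F.obj (op (Over.mk t))) = ⟨t', x'⟩ :=
  sigma_ext F _ _ h hx

section Repr

variable {F} (G : Subfunctor F) {W : Over S} (R : G.toFunctor.RepresentableBy W)

/-- the universal element -/
noncomputable def univ : F.obj (op W) := (R.homEquiv (𝟙 W)).1

theorem univ_mem : univ G R ∈ G.obj (op W) := (R.homEquiv (𝟙 W)).2

theorem homEquiv_val {T : Over S} (a : T ⟶ W) : (R.homEquiv a).1 = F.map a.op (univ G R) := by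
  have h := R.homEquiv_comp a (𝟙 W)
  rw [Category.comp_id] at h
  rw [h]
  rfl

theorem exists_hom {T : Over S} (y : F.obj (op T)) (hy : y ∈ G.obj (op T)) :
    ∃ a : T ⟶ W, F.map a.op (univ G R) = y := by
  refine ⟨R.homEquiv.symm ⟨y, hy⟩, ?_⟩
  rw [← homEquiv_val, Equiv.apply_symm_apply]

theorem hom_unique {T : Over S} (a a' : T ⟶ W)
    (h : F.map a.op (univ G R) = F.map a'.op (univ G R)) : a = a' := by
  apply R.homEquiv.injective
  apply Subtype.ext
  rw [homEquiv_val, homEquiv_val, h]

theorem map_univ_mem {T : Over S} (a : T ⟶ W) : F.map a.op (univ G R) ∈ G.obj (op T) :=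
  G.map a.op (univ_mem G R)

end Repr

end Groth.Agent.Helper19.LRB
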