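import Mathlib
import Groth.Agent.Lib.Helper19.LRB.Basic

/-!
# Local representability over a base: main lemma (helper19)
-/

set_option autoImplicit false
set_option linter.style.haveILetI false
set_option linter.unusedSectionVars false
set_option linter.unusedVariables false

universe u
open CategoryTheory CategoryTheory.Limits AlgebraicGeometry Opposite

namespace Groth.Agent.Helper19.LRB

open Groth.Agent.Helper14.MorGlue

variable {S : Scheme.{u}} (F : (Over S)ᵒᵖ ⥤ Type u)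

/-- the map from the representing object of a subfunctor to the total presheaf -/
noncomputable def toTot (G : Subfunctor F) {W : Over S} (R : G.toFunctor.RepresentableBy W) :
    yoneda.obj W.left ⟶ tot F :=
  yonedaEquiv.symm (⟨W.hom, univ G R⟩ : Σ t : W.left ⟶ S, F.obj (op (Over.mk t)))

theorem toTot_app (G : Subfunctor F) {W : Over S} (R : G.toFunctor.RepresentableBy W)
    {T : Scheme.{u}} (a : T ⟶ W.left) :
    (toTot F G R).app (op T) a =
      (⟨a ≫ W.hom, res F a rfl (univ G R)⟩ : Σ t : T ⟶ S, F.obj (op (Over.mk t))) := by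
  rfl

theorem yonedaEquiv_symm_app {T T' : Scheme.{u}} (e : (tot F).obj (op T)) (φ : T' ⟶ T) :
    ((yonedaEquiv (F := tot F)).symm e).app (op T') φ = (tot F).map φ.op e := by
  rfl

theorem res_comp' {T T' T'' : Scheme.{u}} (φ : T' ⟶ T) (ψ : T'' ⟶ T') {t : T ⟶ S} {t' : T' ⟶ S}
    {t'' : T'' ⟶ S} (h : φ ≫ t = t') (h' : ψ ≫ t' = t'') (h'' : (ψ ≫ φ) ≫ t = t'')
    (x : F.obj (op (Over.mk t))) :
    res F (ψ ≫ φ) h'' x = res F ψ h' (res F φ h x) :=
  (res_res F φ ψ h h' x).symm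

theorem res_left {T : Scheme.{u}} {t : T ⟶ S} {W : Over S} (a : Over.mk t ⟶ W)
    (ξ : F.obj (op W)) : F.map a.op ξ = res F a.left (Over.w a) ξ := rfl

section Main

variable {F} {I : Type u} (G : I → Subfunctor F) (W : I → Over S)
  (R : ∀ i, (G i).toFunctor.RepresentableBy (W i))

/-- membership in `G i` of a pulled back section is an open condition. -/
def OpenHyp : Prop :=
  ∀ i (T : Scheme.{u}) (t : T ⟶ S) (x : F.obj (op (Over.mk t))),
    ∃ O : T.Opens, ∀ (T' : Scheme.{u}) (φ : T' ⟶ T),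
      res F φ rfl x ∈ (G i).obj (op (Over.mk (φ ≫ t))) ↔ Set.range φ.base ⊆ (O : Set T)

/-- every section lies locally in some `G i`. -/
def CoverHyp : Prop :=
  ∀ (T : Scheme.{u}) (t : T ⟶ S) (x : F.obj (op (Over.mk t))) (p : T),
    ∃ i, ∃ O : T.Opens, p ∈ O ∧ res F O.ι rfl x ∈ (G i).obj (op (Over.mk (O.ι ≫ t)))

theorem comm_aux (i : I) {T : Scheme.{u}} (t : T ⟶ S) (x : F.obj (op (Over.mk t))) (O : T.Opens)
    (a₀ : Over.mk (O.ι ≫ t) ⟶ W i)
    (ha₀ : res F a₀.left (Over.w a₀) (univ (G i) (R i)) = res F O.ι rfl x)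
    {T'' : Scheme.{u}} (ψ : T'' ⟶ O.toScheme) :
    (⟨(ψ ≫ a₀.left) ≫ (W i).hom, res F (ψ ≫ a₀.left) rfl (univ (G i) (R i))⟩ :
        Σ t : T'' ⟶ S, F.obj (op (Over.mk t))) =
      ⟨(ψ ≫ O.ι) ≫ t, res F (ψ ≫ O.ι) rfl x⟩ := by
  have hw₀ : a₀.left ≫ (W i).hom = O.ι ≫ t := Over.w a₀
  have h1 : (ψ ≫ a₀.left) ≫ (W i).hom = (ψ ≫ O.ι) ≫ t := by
    rw [Category.assoc, hw₀, Category.assoc]
  refine tot_ext F _ _ h1 ?_
  rw [res_res]
  rw [res_comp' F O.ι ψ rfl (Category.assoc _ _ _).symm rfl x, ← ha₀, res_res]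
  exact res_congr F (Category.id_comp _) _ _

theorem uniq_aux (i : I) {T : Scheme.{u}} (t : T ⟶ S) (x : F.obj (op (Over.mk t))) (O : T.Opens)
    (a₀ : Over.mk (O.ι ≫ t) ⟶ W i)
    (ha₀ : res F a₀.left (Over.w a₀) (univ (G i) (R i)) = res F O.ι rfl x)
    {T'' : Scheme.{u}} (ψ : T'' ⟶ O.toScheme) (a : T'' ⟶ (W i).left)
    (h : (⟨a ≫ (W i).hom, res F a rfl (univ (G i) (R i))⟩ :
        Σ t : T'' ⟶ S, F.obj (op (Over.mk t))) = ⟨(ψ ≫ O.ι) ≫ t, res F (ψ ≫ O.ι) rfl x⟩) :
    ψ ≫ a₀.left = a := by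
  have h' := h.trans (comm_aux G W R i t x O a₀ ha₀ ψ).symm
  have h1 : a ≫ (W i).hom = (ψ ≫ a₀.left) ≫ (W i).hom := sigma_fst_eq F h'
  have h2 := sigma_snd_eq F h'
  dsimp only at h2
  rw [res_res] at h2
  have e := hom_unique (G i) (R i)
    (Over.homMk a h1 : Over.mk ((ψ ≫ a₀.left) ≫ (W i).hom) ⟶ W i)
    (Over.homMk (ψ ≫ a₀.left) rfl : Over.mk ((ψ ≫ a₀.left) ≫ (W i).hom) ⟶ W i) ?_
  · exact (congrArg (fun m => m.left) e).symm
  · change res F a h1 _ = res F (ψ ≫ a₀.left) rfl _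
    rw [← h2]
    exact res_congr F (Category.id_comp _).symm _ _

theorem isOpenImmersion_presheaf (hopen : OpenHyp G) (i : I) :
    IsOpenImmersion.presheaf (toTot F (G i) (R i)) := by
  apply MorphismProperty.relative.of_exists
  intro T g
  obtain ⟨⟨t, x⟩, rfl⟩ := (yonedaEquiv (F := tot F)).symm.surjective g
  obtain ⟨O, hO⟩ := hopen i T t x
  have hxO : res F O.ι rfl x ∈ (G i).obj (op (Over.mk (O.ι ≫ t))) :=
    (hO _ O.ι).mpr (by simp)
  obtain ⟨a₀, ha₀⟩ := exists_hom (G i) (R i) _ hxO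
  have hw₀ : a₀.left ≫ (W i).hom = O.ι ≫ t := Over.w a₀
  rw [res_left] at ha₀
  refine ⟨O.toScheme, yoneda.map a₀.left, O.ι, ?_, inferInstance⟩
  apply IsPullback.of_forall_isPullback_app
  intro T''
  obtain ⟨T''⟩ := T''
  rw [Types.isPullback_iff]
  refine ⟨?_, ?_, ?_⟩
  · ext ψ
    exact comm_aux G W R i t x O a₀ ha₀ ψ
  · intro ψ₁ ψ₂ h
    have h2 : ψ₁ ≫ O.ι = ψ₂ ≫ O.ι := h.2
    exact (cancel_mono O.ι).mp h2
  · intro a φ h
    change T'' ⟶ (W i).left at a
    change T'' ⟶ T at φ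
    change (⟨a ≫ (W i).hom, res F a rfl (univ (G i) (R i))⟩ :
        Σ t : T'' ⟶ S, F.obj (op (Over.mk t))) = ⟨φ ≫ t, res F φ rfl x⟩ at h
    have h1 : a ≫ (W i).hom = φ ≫ t := sigma_fst_eq F h
    have h2 := sigma_snd_eq F h
    dsimp only at h2
    rw [res_res] at h2
    -- the pulled back section lies in `G i`
    have hmem : res F φ rfl x ∈ (G i).obj (op (Over.mk (φ ≫ t))) := by
      rw [← h2]
      exact map_univ_mem (G i) (R i) (Over.homMk (𝟙 T'' ≫ a) (by
          change (𝟙 T'' ≫ a) ≫ (W i).hom = φ ≫ t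
          rw [Category.id_comp]; exact h1) :
        Over.mk (φ ≫ t) ⟶ W i)
    have hrange : Set.range φ.base ⊆ (O : Set T) := (hO _ φ).mp hmem
    have hrange' : Set.range φ.base ⊆ Set.range O.ι.base := by
      simpa using hrange
    obtain ⟨ψ, rfl⟩ : ∃ ψ : T'' ⟶ O.toScheme, ψ ≫ O.ι = φ :=
      ⟨IsOpenImmersion.lift O.ι φ hrange', IsOpenImmersion.lift_fac O.ι φ hrange'⟩
    exact ⟨ψ, uniq_aux G W R i t x O a₀ ha₀ ψ a h, rfl⟩

theorem isLocallySurjective (hcov : CoverHyp G) :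
    Presheaf.IsLocallySurjective Scheme.zariskiTopology
      (Sigma.desc (fun i => toTot F (G i) (R i))) := by
  constructor
  intro T e
  obtain ⟨t, x⟩ := e
  choose i O hpO hmem using hcov T t x
  rw [Scheme.mem_grothendieckTopology_iff]
  have hO : TopologicalSpace.IsOpenCover O := by
    apply TopologicalSpace.IsOpenCover.mk
    rw [eq_top_iff]
    intro p _
    exact TopologicalSpace.Opens.mem_iSup.mpr ⟨p, hpO p⟩
  refine ⟨T.openCoverOfIsOpenCover O hO, ?_⟩
  rintro T' φ ⟨p⟩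
  obtain ⟨a, ha⟩ := exists_hom (G (i p)) (R (i p)) _ (hmem p)
  rw [res_left] at ha
  refine ⟨(Sigma.ι (fun i => yoneda.obj (W i).left) (i p)).app _ a.left, ?_⟩
  have e1 : (Sigma.desc (fun i => toTot F (G i) (R i))).app (op (O p).toScheme)
      ((Sigma.ι (fun i => yoneda.obj (W i).left) (i p)).app _ a.left) =
      (toTot F (G (i p)) (R (i p))).app (op (O p).toScheme) a.left := by
    rw [← ConcreteCategory.comp_apply, ← NatTrans.comp_app, Sigma.ι_desc]
  refine e1.trans ?_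
  change (⟨a.left ≫ (W (i p)).hom, res F a.left rfl (univ (G (i p)) (R (i p)))⟩ :
      Σ t' : (O p).toScheme ⟶ S, F.obj (op (Over.mk t'))) = ⟨(O p).ι ≫ t, res F (O p).ι rfl x⟩
  refine tot_ext F _ _ (Over.w a) ?_
  rw [res_res, ← ha]
  exact res_congr F (Category.id_comp _) _ _

/-- **Local representability over a base.**  A presheaf `F` on `Over S` whose total presheaf is a
Zariski sheaf and which is covered by representable open subfunctors is representable. -/
theorem isRepresentable {I : Type u} (G : I → Subfunctor F) (W : I → Over S)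
    (R : ∀ i, (G i).toFunctor.RepresentableBy (W i))
    (hsh : Presheaf.IsSheaf Scheme.zariskiTopology (tot F))
    (hopen : OpenHyp G) (hcov : CoverHyp G) : F.IsRepresentable := by
  let FS : Sheaf Scheme.zariskiTopology (Type u) := ⟨tot F, hsh⟩
  haveI : Presheaf.IsLocallySurjective Scheme.zariskiTopology
      (Sigma.desc (fun i => (toTot F (G i) (R i) : yoneda.obj (W i).left ⟶ FS.1))) :=
    isLocallySurjective G W R hcov
  have hrep : (tot F).IsRepresentable :=
    Scheme.LocalRepresentability.isRepresentable (F := FS)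
      (f := fun i => toTot F (G i) (R i)) (fun i => isOpenImmersion_presheaf G W R hopen i)
  obtain ⟨w, ⟨Rw⟩⟩ := representableBy_of_tot F hrep.has_representation.choose_spec.some
  exact ⟨_, ⟨Rw⟩⟩

/-- The same with representability of the subfunctors as a property. -/
theorem isRepresentable' {I : Type u} (G : I → Subfunctor F)
    (hrep : ∀ i, (G i).toFunctor.IsRepresentable)
    (hsh : Presheaf.IsSheaf Scheme.zariskiTopology (tot F))
    (hopen : OpenHyp G) (hcov : CoverHyp G) : F.IsRepresentable :=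
  isRepresentable G (fun i => (hrep i).has_representation.choose)
    (fun i => (hrep i).has_representation.choose_spec.some) hsh hopen hcov

end Main

end Groth.Agent.Helper19.LRB
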