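import Mathlib
import Groth.Prelude.Def_Flatn
import Groth.Prelude.Def_Mor2
import Groth.Agent.Lib.Helper1.MorSheaf

/-!
# Open subfunctors of `Mor_S(Z, X)`: morphisms landing in an open of `X` (helper19)
-/

set_option autoImplicit false
set_option linter.style.haveILetI false
set_option linter.unusedSectionVars false
set_option linter.unusedVariables false

universe u
open CategoryTheory CategoryTheory.Limits AlgebraicGeometry Opposite

namespace Groth.Agent.Helper19.LRB

open Groth.Agent.Helper1.MorSheaf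

variable {Z X S : Scheme.{u}} (g : Z ⟶ S) (f : X ⟶ S)

/-- the subfunctor of `Mor_S(Z, X)` of morphisms landing in the open `U` of `X`. -/
noncomputable def landsIn (U : X.Opens) : Subfunctor (Flatn.morS g f) where
  obj T := {b | Set.range (sec g f (T := T.unop) b).base ⊆ (U : Set X)}
  map {T T'} φ := by
    intro b hb
    change Set.range (sec g f ((Flatn.morS g f).map φ.unop.op b)).base ⊆ (U : Set X)
    rw [sec_map]
    rintro _ ⟨z, rfl⟩
    rw [Scheme.Hom.comp_apply]
    exact hb ⟨_, rfl⟩

theorem mem_landsIn (U : X.Opens) {T : Over S} (b : (Flatn.morS g f).obj (op T)) :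
    b ∈ (landsIn g f U).obj (op T) ↔ Set.range (sec g f b).base ⊆ (U : Set X) := Iff.rfl

/-- The locus in `T` over which `b` maps into `U`. -/
noncomputable def locus [IsFinite g] {T : Over S} (b : (Flatn.morS g f).obj (op T)) (U : X.Opens) :
    T.left.Opens :=
  ⟨((pullback.fst T.hom g).base '' ((sec g f b).base ⁻¹' (U : Set X)ᶜ))ᶜ, by
    rw [isOpen_compl_iff]
    exact (pullback.fst T.hom g).isClosedMap _
      ((U.isOpen.isClosed_compl).preimage (sec g f b).continuous)⟩

theorem mem_locus [IsFinite g] {T : Over S} (b : (Flatn.morS g f).obj (op T)) (U : X.Opens)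
    (p : T.left) :
    p ∈ locus g f b U ↔ ∀ z : ↥(pullback T.hom g), (pullback.fst T.hom g).base z = p →
      (sec g f b).base z ∈ U := by
  change p ∉ _ ↔ _
  constructor
  · intro h z hz
    by_contra hzU
    exact h ⟨z, hzU, hz⟩
  · rintro h ⟨z, hzU, hz⟩
    exact hzU (h z hz)

/-- the base-change square of `φ : T' ⟶ T`. -/
theorem isPullback_lf {T T' : Over S} (φ : T' ⟶ T) :
    IsPullback (lf g φ) (pullback.fst T'.hom g) (pullback.fst T.hom g) φ.left := by
  have hT' : T'.hom = φ.left ≫ T.hom := (Over.w φ).symm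
  refine IsPullback.of_right (h₁₂ := pullback.snd T.hom g) (h₂₂ := T.hom) (v₁₃ := g) ?_
    (lf_fst g φ) (IsPullback.of_hasPullback T.hom g).flip
  rw [lf_snd, ← hT']
  exact (IsPullback.of_hasPullback T'.hom g).flip

theorem map_mem_landsIn_iff [IsFinite g] {T T' : Over S} (φ : T' ⟶ T)
    (b : (Flatn.morS g f).obj (op T)) (U : X.Opens) :
    (Flatn.morS g f).map φ.op b ∈ (landsIn g f U).obj (op T') ↔
      Set.range φ.left.base ⊆ (locus g f b U : Set T.left) := by
  rw [mem_landsIn, sec_map]
  constructor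
  · rintro h _ ⟨p', rfl⟩
    rw [SetLike.mem_coe, mem_locus]
    intro z hz
    obtain ⟨z', hz'1, hz'2⟩ := Scheme.exists_preimage_of_isPullback
      (isPullback_lf g φ) z p' hz
    have := h ⟨z', rfl⟩
    rw [Scheme.Hom.comp_apply] at this
    rw [← hz'1]
    exact this
  · rintro h _ ⟨z', rfl⟩
    rw [Scheme.Hom.comp_apply]
    have hp : φ.left.base ((pullback.fst T'.hom g).base z') ∈ locus g f b U := h ⟨_, rfl⟩
    rw [mem_locus] at hp
    apply hp
    have := congrArg (fun m => m.base z') (lf_fst g φ)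
    simpa using this

section Post

variable (U : X.Opens)

theorem ι_mem (y : U.toScheme) : U.ι.base y ∈ (U : Set X) := by
  have : U.ι.base y ∈ Set.range U.ι.base := ⟨y, rfl⟩
  rwa [Scheme.Opens.range_ι] at this

/-- postcomposition with `U.ι`. -/
noncomputable def post {T : Over S} (b' : (Flatn.morS g (U.ι ≫ f)).obj (op T)) :
    (Flatn.morS g f).obj (op T) :=
  Over.homMk (sec g (U.ι ≫ f) b' ≫ U.ι) (by
    change (sec g (U.ι ≫ f) b' ≫ U.ι) ≫ f = pullback.snd T.hom g ≫ g
    rw [Category.assoc]
    exact sec_w g (U.ι ≫ f) b')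

theorem sec_post {T : Over S} (b' : (Flatn.morS g (U.ι ≫ f)).obj (op T)) :
    sec g f (post g f U b') = sec g (U.ι ≫ f) b' ≫ U.ι := rfl

theorem post_mem {T : Over S} (b' : (Flatn.morS g (U.ι ≫ f)).obj (op T)) :
    post g f U b' ∈ (landsIn g f U).obj (op T) := by
  rw [mem_landsIn, sec_post]
  rintro _ ⟨z, rfl⟩
  rw [Scheme.Hom.comp_apply]
  exact ι_mem U _

theorem range_le {T : Over S} (b : (Flatn.morS g f).obj (op T))
    (hb : b ∈ (landsIn g f U).obj (op T)) :
    Set.range (sec g f b).base ⊆ Set.range U.ι.base := by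
  rw [Scheme.Opens.range_ι]
  exact hb

/-- factoring a morphism landing in `U` through `U`. -/
noncomputable def unpost {T : Over S} (b : (Flatn.morS g f).obj (op T))
    (hb : b ∈ (landsIn g f U).obj (op T)) : (Flatn.morS g (U.ι ≫ f)).obj (op T) :=
  Over.homMk (IsOpenImmersion.lift U.ι (sec g f b) (range_le g f U b hb)) (by
    change IsOpenImmersion.lift U.ι (sec g f b) _ ≫ U.ι ≫ f = pullback.snd T.hom g ≫ g
    rw [IsOpenImmersion.lift_fac_assoc]
    exact sec_w g f b)

theorem sec_unpost {T : Over S} (b : (Flatn.morS g f).obj (op T))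
    (hb : b ∈ (landsIn g f U).obj (op T)) :
    sec g (U.ι ≫ f) (unpost g f U b hb) =
      IsOpenImmersion.lift U.ι (sec g f b) (range_le g f U b hb) := rfl

/-- sections landing in `U` are the sections of `Mor_S(Z, U)`. -/
noncomputable def postEquiv (T : Over S) :
    (Flatn.morS g (U.ι ≫ f)).obj (op T) ≃ (landsIn g f U).toFunctor.obj (op T) where
  toFun b' := ⟨post g f U b', post_mem g f U b'⟩
  invFun b := unpost g f U b.1 b.2
  left_inv b' := by
    apply sec_ext
    rw [sec_unpost, ← cancel_mono U.ι, IsOpenImmersion.lift_fac, sec_post]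
  right_inv b := by
    apply Subtype.ext
    apply sec_ext
    change sec g f (post g f U (unpost g f U b.1 b.2)) = sec g f b.1
    rw [sec_post, sec_unpost, IsOpenImmersion.lift_fac]

/-- the natural isomorphism `Mor_S(Z, U) ≅ landsIn U`. -/
noncomputable def postIso : Flatn.morS g (U.ι ≫ f) ≅ (landsIn g f U).toFunctor :=
  NatIso.ofComponents (fun T => (postEquiv g f U T.unop).toIso) (by
    intro T T' φ
    ext b'
    apply Subtype.ext
    apply sec_ext
    change sec g f (post g f U ((Flatn.morS g (U.ι ≫ f)).map φ.unop.op b')) =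
      sec g f ((Flatn.morS g f).map φ.unop.op (post g f U b'))
    rw [sec_post, sec_map, sec_map, sec_post, Category.assoc])

theorem landsIn_isRepresentable (h : (Flatn.morS g (U.ι ≫ f)).IsRepresentable) :
    (landsIn g f U).toFunctor.IsRepresentable := by
  obtain ⟨W, ⟨R⟩⟩ := h.has_representation
  exact ⟨W, ⟨R.ofIso (postIso g f U)⟩⟩

end Post

end Groth.Agent.Helper19.LRB
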