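import Mathlib
import Groth.Agent.Lib.Helper19.LRB.Main
import Groth.Agent.Lib.Helper19.LRB.MorOpen
import Groth.Agent.Lib.Helper19.MorSRestrict
import Groth.Agent.Lib.Helper1.MorSheafW
import Groth.Agent.Lib.Helper9.FreeNbhd
import Groth.Agent.Lib.Helper14.MorGlue3
import Groth.Agent.Lib.Helper14.MorGlue8

/-!
# `Mor_S(Z, X)` over an affine base, by open subfunctors `Mor_S(Z, U)` (helper19)
-/

set_option autoImplicit false
set_option linter.style.haveILetI false
set_option linter.unusedSectionVars false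
set_option linter.unusedVariables false

universe u
open CategoryTheory CategoryTheory.Limits AlgebraicGeometry Opposite

namespace Groth.Agent.Helper19.LRB

open Groth.Agent.Helper1.MorSheaf Groth.Agent.Helper14.MorGlue

variable {Z X S : Scheme.{u}} (g : Z ⟶ S) (f : X ⟶ S)

/-- helper14's S7194 in library form. -/
theorem rep7194 (hg : Mor2.IsFinLocFree g) [IsAffineHom f] :
    ∃ W : Over S, IsAffineHom W.hom ∧ Nonempty ((Flatn.morS g f).RepresentableBy W) :=
  Groth.Agent.Helper14.MorGlue.main7194 g f hg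
    (Groth.Agent.Helper1.MorSheafW.isZarSheafW_morS g f)
    (fun U W' h => Groth.Agent.Helper19.MorSRestrict.morS_restrict_representableBy g f U W' h)
    (fun s => Groth.Agent.Helper9.FreeNbhd.exists_free_nbhd g hg s)

theorem tot_morS_isSheaf :
    Presheaf.IsSheaf Scheme.zariskiTopology (tot (Flatn.morS g f)) :=
  (isSheaf_iff_isSheaf_of_type _ _).mpr
    (tot_isSheaf _ (Groth.Agent.Helper1.MorSheafW.isZarSheafW_morS g f))

/-- the family of open subfunctors indexed by the affine opens of `X`. -/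
noncomputable def fam : X.affineOpens → Subfunctor (Flatn.morS g f) :=
  fun U => landsIn g f U.1

theorem fam_isRepresentable [IsAffine S] (hg : Mor2.IsFinLocFree g) (U : X.affineOpens) :
    (fam g f U).toFunctor.IsRepresentable := by
  apply landsIn_isRepresentable
  haveI : IsAffine U.1.toScheme := U.2
  obtain ⟨W, -, ⟨R⟩⟩ := rep7194 g (U.1.ι ≫ f) hg
  exact ⟨W, ⟨R⟩⟩

theorem fam_openHyp [IsFinite g] : OpenHyp (fam g f) := by
  intro U T t b
  refine ⟨locus g f (T := Over.mk t) b U.1, ?_⟩
  intro T' φ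
  exact map_mem_landsIn_iff g f (Over.homMk φ rfl : Over.mk (φ ≫ t) ⟶ Over.mk t) b U.1

/-- the hypothesis of S7195 on `f`: finitely many points of a fibre lie in an affine open. -/
def AffNbhdHyp : Prop :=
  ∀ (s : S) (d : ℕ) (x : Fin d → ↥X), (∀ k, f (x k) = s) →
    ∃ U : X.Opens, IsAffineOpen U ∧ ∀ k, x k ∈ U

theorem fam_coverHyp [IsFinite g] (hAF : AffNbhdHyp f) : CoverHyp (fam g f) := by
  intro T t b p
  have hfin : ((pullback.fst t g) ⁻¹' {p}).Finite :=
    (pullback.fst t g).finite_preimage_singleton p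
  haveI : Finite ↥((pullback.fst t g) ⁻¹' {p}) := hfin.to_subtype
  obtain ⟨d, ⟨e⟩⟩ := Finite.exists_equiv_fin ↥((pullback.fst t g) ⁻¹' {p})
  have hx : ∀ k : Fin d, f ((sec g f (T := Over.mk t) b) (e.symm k).1) = t p := by
    intro k
    have hz : (pullback.fst t g) (e.symm k).1 = p := (e.symm k).2
    rw [← Scheme.Hom.comp_apply, sec_w g f (T := Over.mk t) b]
    change (pullback.snd t g ≫ g) _ = _
    rw [← pullback.condition, Scheme.Hom.comp_apply, hz]
  obtain ⟨U, hU, hxU⟩ := hAF (t p) d (fun k => (sec g f (T := Over.mk t) b) (e.symm k).1) hx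
  refine ⟨⟨U, hU⟩, locus g f (T := Over.mk t) b U, ?_, ?_⟩
  · rw [mem_locus]
    intro z hz
    have := hxU (e ⟨z, hz⟩)
    simpa using this
  · refine (map_mem_landsIn_iff g f
      (Over.homMk (locus g f (T := Over.mk t) b U).ι rfl :
        Over.mk ((locus g f (T := Over.mk t) b U).ι ≫ t) ⟶ Over.mk t) b U).mpr ?_
    change Set.range (locus g f (T := Over.mk t) b U).ι.base ⊆ _
    rw [Scheme.Opens.range_ι]

/-- S7195 over an affine base. -/
theorem isRepresentable_of_isAffine [IsAffine S] (hg : Mor2.IsFinLocFree g) (hAF : AffNbhdHyp f) :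
    (Flatn.morS g f).IsRepresentable := by
  haveI : IsFinite g := hg.1
  exact isRepresentable' (fam g f) (fam_isRepresentable g f hg) (tot_morS_isSheaf g f)
    (fam_openHyp g f) (fam_coverHyp g f hAF)

end Groth.Agent.Helper19.LRB
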