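import Mathlib
import Groth.Agent.Lib.Helper19.LRB.AffBase
import Groth.Agent.Lib.Helper14.MorGlue5
import Groth.Agent.Lib.Helper14.MorGlue6
import Groth.Agent.Lib.Helper9.FibPowAff

/-!
# `Mor_S(Z, X)` is representable when finite sets of points of the fibres of `X` lie in affine
opens (helper19, S7195): reduction to an affine base
-/

set_option autoImplicit false
set_option linter.style.haveILetI false
set_option linter.unusedSectionVars false
set_option linter.unusedVariables false

universe u
open CategoryTheory CategoryTheory.Limits AlgebraicGeometry Opposite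

namespace Groth.Agent.Helper19.LRB

open Groth.Agent.Helper1.MorSheaf Groth.Agent.Helper14.MorGlue

variable {Z X S : Scheme.{u}} (g : Z ⟶ S) (f : X ⟶ S)

theorem finLocFree_baseChange (hg : Mor2.IsFinLocFree g) {V : Scheme.{u}} (i : V ⟶ S) :
    Mor2.IsFinLocFree (pullback.fst i g) := by
  obtain ⟨h1, h2, h3⟩ := hg
  exact ⟨inferInstance, inferInstance, inferInstance⟩

theorem affNbhd_baseChange (hAF : AffNbhdHyp f) (V : S.Opens) :
    AffNbhdHyp (pullback.fst V.ι f) := by
  intro v d x hx
  classical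
  have hy : ∀ k, f ((pullback.snd V.ι f) (x k)) = V.ι v := by
    intro k
    rw [← Scheme.Hom.comp_apply, ← pullback.condition, Scheme.Hom.comp_apply, hx k]
  obtain ⟨U₀, hU₀, hyU₀⟩ := hAF (V.ι v) d (fun k => (pullback.snd V.ι f) (x k)) hy
  obtain ⟨U, hU, hUle, hyU⟩ := Groth.Agent.Helper9.FibPowAff.exists_affine_le_of_finite U₀ hU₀
    (pullback.snd V.ι f).opensRange
    (Finset.univ.image (fun k => (pullback.snd V.ι f) (x k))) (by
      intro y hy
      obtain ⟨k, -, rfl⟩ := Finset.mem_image.mp hy
      exact ⟨hyU₀ k, ⟨x k, rfl⟩⟩)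
  refine ⟨(pullback.snd V.ι f) ⁻¹ᵁ U, hU.preimage_of_isOpenImmersion _ hUle, ?_⟩
  intro k
  exact hyU _ (Finset.mem_image.mpr ⟨k, Finset.mem_univ _, rfl⟩)

/-- **S7195**: `Mor_S(Z, X)` is representable for `Z/S` finite locally free, when any finitely many
points of a fibre of `X/S` lie in an affine open of `X`. -/
theorem isRepresentable_morS (hg : Mor2.IsFinLocFree g) (hAF : AffNbhdHyp f) :
    (Flatn.morS g f).IsRepresentable := by
  have hchart : ∀ V : S.affineOpens, Nonempty (Chart (F := Flatn.morS g f) V.1) := by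
    intro V
    haveI : IsAffine V.1.toScheme := V.2
    obtain ⟨W', ⟨R'⟩⟩ := (isRepresentable_of_isAffine (pullback.fst V.1.ι g)
      (pullback.fst V.1.ι f) (finLocFree_baseChange g hg V.1.ι)
      (affNbhd_baseChange f hAF V.1)).has_representation
    obtain ⟨R⟩ := Groth.Agent.Helper19.MorSRestrict.morS_restrict_representableBy' g f V.1.ι W' ⟨R'⟩
    exact ⟨Chart.ofRepresentableBy R⟩
  obtain ⟨W, ⟨R⟩⟩ := exists_representableBy
    (Groth.Agent.Helper1.MorSheafW.isZarSheafW_morS g f) (fun V : S.affineOpens => V.1)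
    (fun s => by
      obtain ⟨V, hV, hs, -⟩ := AlgebraicGeometry.exists_isAffineOpen_mem_and_subset
        (X := S) (x := s) (U := ⊤) trivial
      exact ⟨⟨V, hV⟩, hs⟩)
    (fun V => (hchart V).some)
  exact ⟨W, ⟨R⟩⟩

end Groth.Agent.Helper19.LRB
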